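import Groth.Agent.Lib.Cyc26.Split
import Groth.Agent.Lib.CMReg18.PullVb
import Groth.Agent.Lib.AmpleFin18.Curves
import Groth.Agent.Lib.VB17.Proper

/-! # Filtering a bundle by invertible quotients after a modification -/

set_option autoImplicit false
set_option linter.style.haveILetI false
set_option backward.isDefEq.respectTransparency false

universe u

open CategoryTheory Limits AlgebraicGeometry TopologicalSpace

namespace Groth.Agent.Modif26

open Groth.Agent Cyc26Split

variable {X P : Scheme.{u}}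

/-- Reduced schemes mapping into a closed set factor through its reduced structure. -/
theorem vanishingIdeal_le_ker {D : Scheme.{u}} [IsReduced D] (h : D ⟶ P) (Z : Closeds P)
    (hZ : Set.range h ⊆ (Z : Set P)) : Scheme.IdealSheafData.vanishingIdeal Z ≤ h.ker := by
  refine Scheme.IdealSheafData.le_ofIdeals_iff.2 fun U a ha => ?_
  refine RingHom.mem_ker.2 (eq_zero_of_basicOpen_eq_bot _ ?_)
  rw [← Scheme.preimage_basicOpen]
  refine eq_bot_iff.2 fun x hx => ?_
  have hxa : h x ∈ P.basicOpen a := hx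
  have hsupp : h x ∈ (Scheme.IdealSheafData.vanishingIdeal Z).support := by
    show h x ∈ ((Scheme.IdealSheafData.vanishingIdeal Z).support : Set P)
    rw [Scheme.IdealSheafData.coe_support_vanishingIdeal]
    exact hZ ⟨x, rfl⟩
  exact (((Scheme.mem_zeroLocus_iff _ _ _).1
    ((Scheme.IdealSheafData.mem_support_iff_of_mem (P.basicOpen_le a hxa)).1 hsupp) a ha) hxa).elim

/-- The closure of a section over an open, with its reduced structure, is a modification. -/
theorem exists_closure_section [IsIntegral X] (π : P ⟶ X) [IsProper π] (U : X.Opens) (hU : (U : Set X).Nonempty)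
    (h : (U : Scheme.{u}) ⟶ P) (hh : h ≫ π = U.ι) :
    ∃ (Z : Scheme.{u}) (i : Z ⟶ P), IsIntegral Z ∧ IsClosedImmersion i ∧ IsIso ((i ≫ π) ∣_ U) := by
  haveI : Nonempty (U : Scheme.{u}) := hU.to_subtype
  haveI : IsIntegral (U : Scheme.{u}) := isIntegral_of_isOpenImmersion U.ι
  let C : Closeds P := ⟨closure (Set.range h), isClosed_closure⟩
  have hC : IsIrreducible (C : Set P) := by
    refine IsIrreducible.closure ?_
    rw [← Set.image_univ]
    exact (IrreducibleSpace.isIrreducible_univ _).image h h.continuous.continuousOn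
  let I := Scheme.IdealSheafData.vanishingIdeal C
  haveI : IsIntegral I.subscheme := AmpleFin18.isIntegral_of_irreducible C hC
  haveI : IsClosedImmersion I.subschemeι := inferInstance
  have hle : I.subschemeι.ker ≤ h.ker := by
    rw [Scheme.IdealSheafData.ker_subschemeι]
    exact vanishingIdeal_le_ker h C subset_closure
  let l := IsClosedImmersion.lift I.subschemeι h hle
  have hl : l ≫ I.subschemeι = h := IsClosedImmersion.lift_fac _ _ _
  let g := I.subschemeι ≫ π
  have hlg : ∀ a, g (l a) = U.ι a := fun a => by rw [← Scheme.Hom.comp_apply, ← Category.assoc, hl, hh]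
  have hrl : Set.range l ⊆ Set.range (g ⁻¹ᵁ U).ι := by
    rintro _ ⟨a, rfl⟩
    rw [Scheme.Opens.range_ι]
    show g (l a) ∈ U
    rw [hlg]
    exact a.2
  let l' := IsOpenImmersion.lift (g ⁻¹ᵁ U).ι l hrl
  have hl' : l' ≫ (g ⁻¹ᵁ U).ι = l := IsOpenImmersion.lift_fac _ _ _
  have hsec : l' ≫ g ∣_ U = 𝟙 _ := by
    rw [← cancel_mono U.ι, Category.assoc, morphismRestrict_ι, reassoc_of% hl', Category.id_comp, ← hh, ← hl,
      Category.assoc]
  haveI : IsClosedImmersion (l' ≫ g ∣_ U) := by rw [hsec]; infer_instance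
  haveI : IsClosedImmersion l' := IsClosedImmersion.of_comp l' (g ∣_ U)
  have hrh : Set.range h ⊆ Set.range (π ⁻¹ᵁ U).ι := by
    rintro _ ⟨a, rfl⟩
    rw [Scheme.Opens.range_ι]
    show π (h a) ∈ U
    rw [← Scheme.Hom.comp_apply, hh]
    exact a.2
  let h' := IsOpenImmersion.lift (π ⁻¹ᵁ U).ι h hrh
  have hh' : h' ≫ (π ⁻¹ᵁ U).ι = h := IsOpenImmersion.lift_fac _ _ _
  have hsec' : h' ≫ π ∣_ U = 𝟙 _ := by
    rw [← cancel_mono U.ι, Category.assoc, morphismRestrict_ι, reassoc_of% hh', Category.id_comp, hh]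
  haveI : IsClosedImmersion (h' ≫ π ∣_ U) := by rw [hsec']; infer_instance
  haveI : IsClosedImmersion h' := IsClosedImmersion.of_comp h' (π ∣_ U)
  haveI : Surjective l' := ⟨fun z => by
    let w : π ⁻¹ᵁ U := ⟨I.subschemeι z.1, z.2⟩
    have hw : I.subschemeι z.1 ∈ closure (Set.range h) := by
      have h1 : I.subschemeι z.1 ∈ (I.support : Set P) :=
        (Scheme.IdealSheafData.range_subschemeι _).le ⟨z.1, rfl⟩
      rwa [Scheme.IdealSheafData.coe_support_vanishingIdeal] at h1
    have hwr : w ∈ Set.range h' := by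
      have h1 : w ∈ (π ⁻¹ᵁ U).ι ⁻¹' closure (Set.range h) := hw
      rw [← hh', show Set.range (h' ≫ (π ⁻¹ᵁ U).ι) = (π ⁻¹ᵁ U).ι '' Set.range h' by
          rw [← Set.range_comp]; rfl,
        ← (π ⁻¹ᵁ U).ι.isEmbedding.closure_eq_preimage_closure_image, h'.isClosedEmbedding.isClosed_range.closure_eq] at h1
      exact h1
    obtain ⟨a, ha⟩ := hwr
    refine ⟨a, Subtype.ext (I.subschemeι.isEmbedding.injective ?_)⟩
    have e1 : (g ⁻¹ᵁ U).ι (l' a) = l a := by rw [← Scheme.Hom.comp_apply, hl']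
    have e2 : I.subschemeι (l a) = h a := by rw [← Scheme.Hom.comp_apply, hl]
    have e3 : (π ⁻¹ᵁ U).ι (h' a) = h a := by rw [← Scheme.Hom.comp_apply, hh']
    exact ((congrArg I.subschemeι e1).trans (e2.trans e3.symm)).trans (congrArg Subtype.val ha)⟩
  haveI : IsReduced (g ⁻¹ᵁ U : Scheme.{u}) := isReduced_of_isOpenImmersion (g ⁻¹ᵁ U).ι
  haveI : IsIso l' := isIso_of_isClosedImmersion_of_surjective l'
  haveI : IsIso (l' ≫ g ∣_ U) := by rw [hsec]; infer_instance
  exact ⟨I.subscheme, I.subschemeι, inferInstance, inferInstance, IsIso.of_isIso_comp_left l' (g ∣_ U)⟩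

theorem isIso_restrict_mono {Y : Scheme.{u}} (f : X ⟶ Y) {V W : Y.Opens} (hVW : V ≤ W) [IsIso (f ∣_ W)] :
    IsIso (f ∣_ V) := by
  have hsq : IsPullback (X.homOfLE (show f ⁻¹ᵁ V ≤ f ⁻¹ᵁ W from fun x hx => hVW hx)) (f ∣_ V) (f ∣_ W)
      (Y.homOfLE hVW) := by
    refine IsPullback.of_right ?_ ?_ (isPullback_morphismRestrict f W).flip
    · rw [Scheme.homOfLE_ι, Scheme.homOfLE_ι]
      exact (isPullback_morphismRestrict f V).flip
    · rw [← cancel_mono W.ι, Category.assoc, Category.assoc, morphismRestrict_ι, Scheme.homOfLE_ι,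
        morphismRestrict_ι, ← Category.assoc, Scheme.homOfLE_ι]
  exact MorphismProperty.of_isPullback (P := MorphismProperty.isomorphisms Scheme) hsq ‹IsIso (f ∣_ W)›

theorem exists_modification (r : ℕ) : ∀ (X : Scheme.{u}) [IsIntegral X] (E : X.Modules),
    FlatMod.IsFinLocFreeOfRank r E →
    ∃ (X' : Scheme.{u}) (f : X' ⟶ X) (_ : IsIntegral X') (_ : IsProper f) (U : X.Opens),
      (U : Set X).Nonempty ∧ IsIso (f ∣_ U) ∧ Filt ((Scheme.Modules.pullback f).obj E) r := by
  induction r with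
  | zero =>
    intro X _ E hE
    exact ⟨X, 𝟙 X, inferInstance, inferInstance, ⊤, ⟨genericPoint X, trivial⟩, inferInstance,
      filt_zero (M2.isFinLocFreeOfRank_pullback (𝟙 X) hE)⟩
  | succ r ih =>
    intro X _ E hE
    classical
    obtain ⟨P, π, O1, q, hPB, -, hprop, -⟩ := exists_projBundle hE
    obtain ⟨U, hηU, ⟨φ⟩⟩ := hE (genericPoint X)
    let s : (Scheme.Modules.pullback U.ι).obj E ⟶ Coh.structureModule (U : Scheme.{u}) :=
      ((Scheme.Modules.restrictFunctorIsoPullback U.ι).app E).inv ≫ φ.hom ≫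
        Sigma.desc (fun i : Fin (r + 1) => if i = 0 then 𝟙 _ else 0)
    haveI : Epi s := by
      haveI : IsSplitEpi (Sigma.desc (fun i : Fin (r + 1) =>
          if i = 0 then 𝟙 (Coh.structureModule (U : Scheme.{u})) else 0)) :=
        IsSplitEpi.mk' ⟨Sigma.ι (fun _ : Fin (r + 1) => Coh.structureModule (U : Scheme.{u})) 0, by simp⟩
      infer_instance
    have hO : FlatMod.IsFinLocFreeOfRank 1 (Coh.structureModule (U : Scheme.{u})) :=
      M2.isFinLocFreeOfRank_of_iso (M2.freeModOneIso _) (M2.isFinLocFreeOfRank_freeMod _ 1)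
    obtain ⟨h, ⟨hh, -⟩, -⟩ := hPB.univ (U : Scheme.{u}) U.ι _ hO s inferInstance
    haveI := hprop
    obtain ⟨Z, i, hZ, hi, hiso⟩ := exists_closure_section π U ⟨_, hηU⟩ h hh
    let g := i ≫ π
    haveI := hPB.epi
    let v : (Scheme.Modules.pullback g).obj E ⟶ (Scheme.Modules.pullback i).obj O1 :=
      (Scheme.Modules.pullbackComp i π).inv.app E ≫ (Scheme.Modules.pullback i).map q
    haveI : (Scheme.Modules.pullback i).IsLeftAdjoint :=
      ⟨_, ⟨Scheme.Modules.pullbackPushforwardAdjunction i⟩⟩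
    haveI : Epi v := epi_comp _ _
    have hS : (ShortComplex.mk (kernel.ι v) v (kernel.condition v)).ShortExact :=
      ShortComplex.ShortExact.mk' (ShortComplex.exact_kernel v) inferInstance ‹_›
    have hL := M2.isFinLocFreeOfRank_pullback i hPB.invertible
    have hK : FlatMod.IsFinLocFreeOfRank r (kernel v) :=
      isFinLocFreeOfRank_kernel _ _ _ hS (M2.isFinLocFreeOfRank_pullback g hE) hL
    obtain ⟨X', f, hX', hf, U₂, hU₂, hiso₂, hfilt⟩ := ih Z (kernel v) hK
    have hS' := CMReg18.shortExact_pullback f _ hS (KFlat.Sch.isFlat_of_isFinLocFree (M2.isFinLocFree_of_ofRank hL))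
    let V : X.Opens := U ⊓ ⟨(g '' (U₂ : Set Z)ᶜ)ᶜ, (g.isClosedMap _ U₂.isOpen.isClosed_compl).isOpen_compl⟩
    have hVU : V ≤ U := inf_le_left
    have hVU₂ : g ⁻¹ᵁ V ≤ U₂ := fun z hz => not_not.1 fun hn => hz.2 ⟨z, hn, rfl⟩
    refine ⟨X', f ≫ g, hX', inferInstance, V, ⟨genericPoint X, hηU, ?_⟩, ?_,
      (hfilt.extend ((M2.isInvertible_iff_isFinLocFreeOfRank_one _).2 (M2.isFinLocFreeOfRank_pullback f hL)) _ _ _
        hS').of_iso ((Scheme.Modules.pullbackComp f g).app E)⟩
    · rintro ⟨z, hz, hzη⟩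
      have hgz : z ∈ g ⁻¹ᵁ U := show g z ∈ U from hzη ▸ hηU
      have hZη : genericPoint Z ∈ g ⁻¹ᵁ U := (genericPoint_specializes z).mem_open (g ⁻¹ᵁ U).isOpen hgz
      have hgη : g (genericPoint Z) = genericPoint X := by
        have h1 := (genericPoint_specializes z).map g.continuous
        rw [hzη] at h1
        exact (h1.antisymm (genericPoint_specializes _)).eq
      have hinj : Function.Injective (g ∣_ U) := (g ∣_ U).isOpenEmbedding.injective
      have he : (⟨z, hgz⟩ : g ⁻¹ᵁ U) = ⟨genericPoint Z, hZη⟩ := hinj (Subtype.ext (by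
        rw [morphismRestrict_base_coe, morphismRestrict_base_coe]
        exact hzη.trans hgη.symm))
      refine hz ?_
      rw [show z = genericPoint Z from congrArg Subtype.val he]
      obtain ⟨w, hw⟩ := hU₂
      exact (genericPoint_specializes w).mem_open U₂.isOpen hw
    · haveI := hiso
      haveI := hiso₂
      haveI : IsIso (g ∣_ V) := isIso_restrict_mono g hVU
      haveI : IsIso (f ∣_ (g ⁻¹ᵁ V)) := isIso_restrict_mono f hVU₂
      rw [morphismRestrict_comp]
      infer_instance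

end Groth.Agent.Modif26
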